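import Groth.Agent.FormalSysLib.Sys
import Groth.Agent.RelDivLib.ImmBC
import Groth.Agent.SerreAff.Free
import Groth.Agent.TildePullback.Conormal
import Groth.Agent.CMRegLib.Koszul
import Groth.Agent.FormalLib.ProperSupport
import Groth.Agent.ProperFin.PushHH
import Mathlib.RingTheory.Flat.EquationalCriterion

/-!
# The ideal of one step of a flat adic system
-/

set_option autoImplicit false
set_option backward.isDefEq.respectTransparency false
set_option linter.style.haveILetI false

universe u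

open CategoryTheory CategoryTheory.Limits AlgebraicGeometry TopologicalSpace Opposite
open Groth.Agent.CohBase Groth.Agent.QCohLib

noncomputable section

namespace Groth.Agent.AdicPicLib

/-- An ideal killed by a maximal ideal has generators with no relation outside the maximal ideal. -/
theorem exists_gens {B : Type u} [CommRing B] [IsNoetherianRing B] (J m : Ideal B) [hm : m.IsMaximal]
    (hJ : J * m = ⊥) :
    ∃ (r : ℕ) (ε : Fin r → B), Ideal.span (Set.range ε) = J ∧
      ∀ b : Fin r → B, ∑ i, ε i * b i = 0 → ∀ i, b i ∈ m := by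
  classical
  have hex : ∃ r, ∃ ε : Fin r → B, Ideal.span (Set.range ε) = J :=
    Submodule.fg_iff_exists_fin_generating_family.1 (IsNoetherian.noetherian J)
  obtain ⟨ε, hε⟩ := Nat.find_spec hex
  refine ⟨_, ε, hε, fun b hb i => by_contra fun hi => ?_⟩
  generalize hr : Nat.find hex = r at ε b i
  match r, hr, ε, hε, b, hb, i, hi with
  | 0, _, _, _, _, _, i, _ => exact i.elim0
  | s + 1, hr, ε, hε, b, hb, i, hi =>
    refine Nat.find_min hex (show s < Nat.find hex by omega) ⟨fun j => ε (i.succAbove j), ?_⟩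
    have hmem : ε i ∈ Ideal.span (Set.range fun j => ε (i.succAbove j)) := by
      obtain ⟨y, z, hz, hyz⟩ := hm.exists_inv hi
      have h0 : ε i * z = 0 := by
        have h1 := Ideal.mul_mem_mul (hε ▸ Ideal.subset_span ⟨i, rfl⟩ : ε i ∈ J) hz
        rwa [hJ, Ideal.mem_bot] at h1
      rw [Fin.sum_univ_succAbove _ i, add_eq_zero_iff_eq_neg] at hb
      have h2 : ε i = y * (ε i * b i) := by
        calc ε i = ε i * (y * b i + z) := by rw [hyz, mul_one]
          _ = y * (ε i * b i) + ε i * z := by ring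
          _ = _ := by rw [h0, add_zero]
      rw [h2, hb]
      refine Ideal.mul_mem_left _ _ (neg_mem (Submodule.sum_mem _ fun j _ => ?_))
      exact Ideal.mul_mem_right _ _ (Ideal.subset_span ⟨j, rfl⟩)
    refine le_antisymm (Ideal.span_le.2 ?_) ((le_of_eq hε.symm).trans (Ideal.span_le.2 ?_))
    · rintro - ⟨j, rfl⟩
      exact hε ▸ Ideal.subset_span ⟨i.succAbove j, rfl⟩
    · rintro - ⟨l, rfl⟩
      rcases eq_or_ne l i with rfl | hl
      · exact hmem
      · obtain ⟨j, rfl⟩ := Fin.exists_succAbove_eq hl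
        exact Ideal.subset_span ⟨j, rfl⟩

/-- The independence of the generators survives a flat extension. -/
theorem mem_of_relation {B M : Type u} [CommRing B] [CommRing M] (φ : B →+* M) (hφ : φ.Flat) (m : Ideal B)
    {r : ℕ} (ε : Fin r → B) (hε : ∀ b : Fin r → B, ∑ i, ε i * b i = 0 → ∀ i, b i ∈ m) (x : Fin r → M)
    (hx : ∑ i, φ (ε i) * x i = 0) (i : Fin r) : x i ∈ m.map φ := by
  letI := φ.toAlgebra
  haveI : Module.Flat B M := hφ
  obtain ⟨k, a, y, hy, ha⟩ := Module.Flat.isTrivialRelation_of_sum_smul_eq_zero (R := B) (M := M) (f := ε) (x := x)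
    (by simpa only [Algebra.smul_def, RingHom.algebraMap_toAlgebra] using hx)
  rw [hy i]
  refine Submodule.sum_mem _ fun j _ => ?_
  rw [Algebra.smul_def]
  exact Ideal.mul_mem_right _ _ (Ideal.mem_map_of_mem _ (hε (fun l => a l j) (ha j) i))

section Geometry

variable {B : Type u} [CommRing B] {X : Scheme.{u}} (f : X ⟶ Spec (CommRingCat.of B))

/-- The sections over an open are an algebra over the base. -/
def baseHom (U : X.Opens) : B →+* Γ(X, U) :=
  ((Scheme.ΓSpecIso (CommRingCat.of B)).inv ≫ f.appLE ⊤ U le_top).hom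

theorem res_baseHom {U V : X.Opens} (h : V ≤ U) (b : B) :
    X.presheaf.map (homOfLE h).op (baseHom f U b) = baseHom f V b := by
  show ((Scheme.ΓSpecIso (CommRingCat.of B)).inv ≫ f.appLE ⊤ U le_top ≫ X.presheaf.map (homOfLE h).op) b = _
  rw [Scheme.Hom.appLE_map]
  rfl

theorem flat_baseHom [Flat f] {U : X.Opens} (hU : IsAffineOpen U) : (baseHom f U).Flat := by
  refine RingHom.Flat.comp ?_ (Flat.flat_appLE f (isAffineOpen_top _) hU le_top)
  exact RingHom.Flat.of_bijective (ConcreteCategory.bijective_of_isIso (Scheme.ΓSpecIso (CommRingCat.of B)).inv)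

/-- The ideal of a closed subscheme cut out from the base. -/
theorem ker_of_isPullback {B' : Type u} [CommRing B'] (π : B →+* B') (hπ : Function.Surjective π)
    {Z : Scheme.{u}} {i : Z ⟶ X} {g : Z ⟶ Spec (CommRingCat.of B')}
    (hc : IsPullback i g f (Spec.map (CommRingCat.ofHom π))) {U : X.Opens} (hU : IsAffineOpen U) :
    RingHom.ker (i.app U).hom = (RingHom.ker π).map (baseHom f U) := by
  let q := Spec.map (CommRingCat.ofHom π)
  haveI : IsClosedImmersion q := IsClosedImmersion.spec_of_surjective _ hπ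
  have hcl : IsClosedImmersion (q ∣_ ⊤) := IsZariskiLocalAtTarget.restrict ‹_› _
  obtain ⟨-, hk⟩ := RelDivLib.closed_and_ker_pullback hc.flip (isAffineOpen_top _) hcl hU le_top
  refine hk.trans ?_
  refine le_antisymm (Ideal.map_le_iff_le_comap.2 fun b hb => ?_) (Ideal.map_le_iff_le_comap.2 fun a ha => ?_)
  · obtain ⟨a, rfl⟩ : ∃ a : B, (Scheme.ΓSpecIso (CommRingCat.of B)).inv a = b :=
      (ConcreteCategory.bijective_of_isIso (Scheme.ΓSpecIso (CommRingCat.of B)).inv).2 b
    refine Ideal.mem_map_of_mem (baseHom f U) ?_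
    rw [RingHom.mem_ker] at hb ⊢
    have h2 := congr($(Scheme.ΓSpecIso_inv_naturality (CommRingCat.ofHom π)) a)
    exact (ConcreteCategory.bijective_of_isIso (Scheme.ΓSpecIso (CommRingCat.of B')).inv).1
      ((h2.trans hb).trans (map_zero _).symm)
  · refine Ideal.mem_map_of_mem (f.appLE ⊤ U le_top).hom ?_
    rw [RingHom.mem_ker]
    have h2 := congr($(Scheme.ΓSpecIso_inv_naturality (CommRingCat.ofHom π)) a)
    refine Eq.trans h2.symm ?_
    show (Scheme.ΓSpecIso (CommRingCat.of B')).inv (π a) = 0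
    rw [RingHom.mem_ker.1 ha, map_zero]

variable [IsNoetherianRing B] {B' k : Type u} [CommRing B'] [Field k] (π : B →+* B') (ρ : B →+* k)

theorem subsingleton_ker_step [Flat f] (hπ : Function.Surjective π) (hρ : Function.Surjective ρ)
    (hJ : RingHom.ker π * RingHom.ker ρ = ⊥)
    {X₁ X₀ : Scheme.{u}} {t : X₁ ⟶ X} {g₁ : X₁ ⟶ Spec (CommRingCat.of B')}
    (hc₁ : IsPullback t g₁ f (Spec.map (CommRingCat.ofHom π)))
    {i : X₀ ⟶ X} {g₀ : X₀ ⟶ Spec (CommRingCat.of k)}
    (hc₀ : IsPullback i g₀ f (Spec.map (CommRingCat.ofHom ρ)))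
    (q : ℕ) (hq : Subsingleton (Coh.HH X₀ (Coh.structureModule X₀) q)) :
    Subsingleton (Coh.HH X (ClSub.idealMod t.ker) q) := by
  classical
  haveI : IsClosedImmersion (Spec.map (CommRingCat.ofHom π)) := IsClosedImmersion.spec_of_surjective _ hπ
  haveI : IsClosedImmersion (Spec.map (CommRingCat.ofHom ρ)) := IsClosedImmersion.spec_of_surjective _ hρ
  haveI : IsClosedImmersion t := MorphismProperty.of_isPullback hc₁.flip inferInstance
  haveI : IsClosedImmersion i := MorphismProperty.of_isPullback hc₀.flip inferInstance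
  haveI : (RingHom.ker ρ).IsMaximal := RingHom.ker_isMaximal_of_surjective ρ hρ
  obtain ⟨r, ε, hspan, hind⟩ := exists_gens (RingHom.ker π) (RingHom.ker ρ) hJ
  let O := Coh.structureModule X
  let a := ClSub.unitToPush t
  let K := kernel a
  let b := ClSub.unitToPush i
  let P := (Scheme.Modules.pushforward i).obj (Coh.structureModule X₀)
  haveI : Coh.IsQCoh P := QCohLib.isQCoh_pushforward _ i
  have hP : Subsingleton (Coh.HH X P q) := by
    obtain ⟨e, -⟩ := ProperFin.exists_pushEquiv i (M := Coh.structureModule X₀)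
      (fun V hV n => affine_vanishing _ (hV.preimage i) n) q
    exact e.symm.toEquiv.subsingleton
  let ι₀ : ∀ U : X.Opens, Γ(K, U) →+ Γ(X, U) := fun U => ((kernel.ι a).app U).hom
  have hι₀ : ∀ U, Function.Injective (ι₀ U) := fun U => FormalSys.app_injective_of_mono (kernel.ι a) U
  -- the component maps
  have hψ : ∀ c ∈ RingHom.ker π, ∃ ψ : P ⟶ K, ∀ (U : X.Opens) (s : Γ(X, U)),
      ι₀ U (ψ.app U (b.app U s)) = baseHom f U c * s := by
    intro c hc
    let M : O ⟶ O := SerreAff.mulBy (baseHom f ⊤ c)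
    have hM : ∀ (U : X.Opens) (s : Γ(X, U)), (M.app U s : Γ(X, U)) = baseHom f U c * s := fun U s => by
      show X.presheaf.map (homOfLE le_top).op (baseHom f ⊤ c) * s = _
      rw [res_baseHom]
    have h0 : M ≫ a = 0 := FormalSys.hom_ext_affine fun U hU s => by
      show t.app U (M.app U s) = 0
      rw [hM, map_mul, show t.app U (baseHom f U c) = 0 from
        RingHom.mem_ker.1 (show _ ∈ RingHom.ker (t.app U).hom by
          rw [ker_of_isPullback f π hπ hc₁ hU]; exact Ideal.mem_map_of_mem _ hc), zero_mul]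
    obtain ⟨ψ, hψ⟩ := FormalSys.exists_desc_affine b (kernel.lift a M h0)
      (fun U hU => i.app_surjective U hU) fun U hU s hs => by
      refine hι₀ U ?_
      rw [map_zero]
      show (kernel.lift a M h0 ≫ kernel.ι a).app U s = 0
      rw [kernel.lift_ι]
      refine (hM U s).trans ?_
      have hs' : (s : Γ(X, U)) ∈ (RingHom.ker ρ).map (baseHom f U) := by
        rw [← ker_of_isPullback f ρ hρ hc₀ hU]
        exact hs
      have := Ideal.mul_mem_mul (Ideal.mem_map_of_mem (baseHom f U) hc) hs'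
      rwa [← Ideal.map_mul, hJ, Ideal.map_bot, Ideal.mem_bot] at this
    refine ⟨ψ, fun U s => ?_⟩
    rw [← hM U s, ← kernel.lift_ι a M h0, ← hψ]
    rfl
  -- assembling
  have key : ∀ (s : ℕ) (δ : Fin s → B), (∀ j, δ j ∈ RingHom.ker π) →
      (∀ c : Fin s → B, ∑ j, δ j * c j = 0 → ∀ j, c j ∈ RingHom.ker ρ) →
      ∃ (E : X.Modules) (g : E ⟶ K), Subsingleton (Coh.HH X E q) ∧ ∀ U : X.Opens, IsAffineOpen U →
        (∀ z, g.app U z = 0 → z = 0) ∧ (∀ z, ∃ x : Fin s → Γ(X, U), ι₀ U (g.app U z) = ∑ j, baseHom f U (δ j) * x j) ∧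
        ∀ x : Fin s → Γ(X, U), ∃ z, ι₀ U (g.app U z) = ∑ j, baseHom f U (δ j) * x j := by
    intro s
    induction s with
    | zero =>
      intro δ _ _
      refine ⟨kernel (𝟙 O), 0, CMRegLib.subsingleton_zero (isZero_kernel_of_mono (𝟙 O)) q, fun U _ => ?_⟩
      refine ⟨fun z _ => FormalSys.app_injective_of_mono (kernel.ι (𝟙 O)) U ?_, fun z => ⟨fun _ => 0, ?_⟩,
        fun x => ⟨0, ?_⟩⟩
      · rw [map_zero]
        have := congr($(kernel.condition (𝟙 O)).app U z)
        rwa [Category.comp_id] at this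
      · rw [Finset.univ_eq_empty, Finset.sum_empty]
        show ι₀ U 0 = 0
        exact map_zero _
      · rw [Finset.univ_eq_empty, Finset.sum_empty, map_zero, map_zero]
    | succ s ih =>
      intro δ hδ hd
      obtain ⟨E, g, hE, hg⟩ := ih (fun j => δ j.succ) (fun j => hδ _) fun c hc j => by
        have := hd (Fin.cons 0 c) (by rw [Fin.sum_univ_succ]; simpa using hc) j.succ
        simpa using this
      obtain ⟨ψ, hψ'⟩ := hψ (δ 0) (hδ 0)
      refine ⟨E ⊞ P, biprod.fst ≫ g + biprod.snd ≫ ψ, CMRegLib.subsingleton_biprod q E P hE hP, fun U hU => ?_⟩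
      obtain ⟨hg1, hg2, hg3⟩ := hg U hU
      have happ : ∀ z, ι₀ U ((biprod.fst ≫ g + biprod.snd ≫ ψ).app U z) =
          ι₀ U (g.app U ((biprod.fst : E ⊞ P ⟶ E).app U z)) +
            ι₀ U (ψ.app U ((biprod.snd : E ⊞ P ⟶ P).app U z)) := fun z => by
        rw [← map_add]; rfl
      have hcomp : ∀ z : Γ(E ⊞ P, U), (biprod.inl : E ⟶ E ⊞ P).app U ((biprod.fst : E ⊞ P ⟶ E).app U z) +
          (biprod.inr : P ⟶ E ⊞ P).app U ((biprod.snd : E ⊞ P ⟶ P).app U z) = z := fun z =>
        congr($(biprod.total (X := E) (Y := P)).app U z)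
      have hsnd : ∀ z : Γ(E ⊞ P, U), ∃ x₀ : Γ(X, U), b.app U x₀ = (biprod.snd : E ⊞ P ⟶ P).app U z :=
        fun z => i.app_surjective U hU _
      refine ⟨fun z hz => ?_, fun z => ?_, fun x => ?_⟩
      · obtain ⟨x, hx⟩ := hg2 ((biprod.fst : E ⊞ P ⟶ E).app U z)
        obtain ⟨x₀, hx₀⟩ := hsnd z
        have h1 : ∑ j, baseHom f U (δ j) * (Fin.cons x₀ x : Fin (s + 1) → Γ(X, U)) j = 0 := by
          rw [Fin.sum_univ_succ]
          simp only [Fin.cons_zero, Fin.cons_succ]
          rw [← hψ' U x₀, ← hx, hx₀, add_comm, ← happ, hz, map_zero]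
        have h2 := mem_of_relation (baseHom f U) (flat_baseHom f hU) _ δ hd _ h1
        have hsnd0 : (biprod.snd : E ⊞ P ⟶ P).app U z = 0 := by
          have h3 := h2 0
          rw [Fin.cons_zero, ← ker_of_isPullback f ρ hρ hc₀ hU, RingHom.mem_ker] at h3
          rw [← hx₀]
          exact h3
        have hfst0 : (biprod.fst : E ⊞ P ⟶ E).app U z = 0 := hg1 _ (hι₀ U (by
          rw [map_zero, hx]
          refine Finset.sum_eq_zero fun j _ => ?_
          have h3 := h2 j.succ
          rw [Fin.cons_succ] at h3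
          have := Ideal.mul_mem_mul (Ideal.mem_map_of_mem (baseHom f U) (hδ j.succ)) h3
          rwa [← Ideal.map_mul, hJ, Ideal.map_bot, Ideal.mem_bot] at this))
        rw [← hcomp z, hfst0, hsnd0, map_zero, map_zero, add_zero]
      · obtain ⟨x, hx⟩ := hg2 ((biprod.fst : E ⊞ P ⟶ E).app U z)
        obtain ⟨x₀, hx₀⟩ := hsnd z
        refine ⟨Fin.cons x₀ x, ?_⟩
        rw [Fin.sum_univ_succ]
        simp only [Fin.cons_zero, Fin.cons_succ]
        rw [← hψ' U x₀, ← hx, hx₀]
        exact (happ z).trans (add_comm _ _)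
      · obtain ⟨e, he⟩ := hg3 fun j => x j.succ
        refine ⟨(biprod.inl : E ⟶ E ⊞ P).app U e + (biprod.inr : P ⟶ E ⊞ P).app U (b.app U (x 0)), ?_⟩
        have hf : (biprod.fst : E ⊞ P ⟶ E).app U
            ((biprod.inl : E ⟶ E ⊞ P).app U e + (biprod.inr : P ⟶ E ⊞ P).app U (b.app U (x 0))) = e := by
          rw [map_add, show (biprod.fst : E ⊞ P ⟶ E).app U ((biprod.inl : E ⟶ E ⊞ P).app U e) = e from
              congr($(biprod.inl_fst (X := E) (Y := P)).app U e),
            show (biprod.fst : E ⊞ P ⟶ E).app U ((biprod.inr : P ⟶ E ⊞ P).app U (b.app U (x 0))) = 0 from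
              congr($(biprod.inr_fst (X := E) (Y := P)).app U (b.app U (x 0))), add_zero]
        have hs' : (biprod.snd : E ⊞ P ⟶ P).app U
            ((biprod.inl : E ⟶ E ⊞ P).app U e + (biprod.inr : P ⟶ E ⊞ P).app U (b.app U (x 0))) = b.app U (x 0) := by
          rw [map_add, show (biprod.snd : E ⊞ P ⟶ P).app U ((biprod.inl : E ⟶ E ⊞ P).app U e) = 0 from
              congr($(biprod.inl_snd (X := E) (Y := P)).app U e),
            show (biprod.snd : E ⊞ P ⟶ P).app U ((biprod.inr : P ⟶ E ⊞ P).app U (b.app U (x 0))) = b.app U (x 0) from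
              congr($(biprod.inr_snd (X := E) (Y := P)).app U (b.app U (x 0))), zero_add]
        rw [happ, hf, hs', he, hψ', Fin.sum_univ_succ, add_comm]
  obtain ⟨E, g, hE, hg⟩ := key r ε (fun j => hspan ▸ Ideal.subset_span ⟨j, rfl⟩) hind
  haveI : IsIso g := FormalLib.isIso_of_affine g fun U hU => by
    obtain ⟨h1, -, h3⟩ := hg U hU
    refine ⟨(injective_iff_map_eq_zero _).2 h1, fun y => ?_⟩
    have hy : ι₀ U y ∈ RingHom.ker (t.app U).hom := congr($(kernel.condition a).app U y)
    rw [ker_of_isPullback f π hπ hc₁ hU, ← hspan, Ideal.map_span, ← Set.range_comp] at hy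
    obtain ⟨x, hx⟩ := (Ideal.mem_span_range_iff_exists_fun).1 hy
    obtain ⟨z, hz⟩ := h3 x
    refine ⟨z, hι₀ U ?_⟩
    rw [hz, ← hx]
    exact Finset.sum_congr rfl fun j _ => mul_comm _ _
  exact @ProjCoh.subsingleton_of_iso _ _ _ (asIso g ≪≫ (TildePullback.idealModKerIso t).symm) q hE

end Geometry

end Groth.Agent.AdicPicLib
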